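import Groth.Agent.Depth.Basic
import Mathlib

/-!
Regular pairs from depth at least two, and their effect on flat algebras.
-/

set_option autoImplicit false
set_option linter.style.haveILetI false
universe u v
open RingTheory.Sequence

namespace Groth.Agent.FlatSecLib

variable {A : Type u} [CommRing A] [IsNoetherianRing A]

theorem two_le_depth_notMem_associatedPrimes {R : Type u} [CommRing R] [IsLocalRing R] [IsNoetherianRing R]
    (h : (2 : ℕ∞) ≤ LocCoh.depth R R) :
    IsLocalRing.maximalIdeal R ∉ associatedPrimes R R ∧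
      ∀ x ∈ IsLocalRing.maximalIdeal R, x ∈ nonZeroDivisors R →
        ∀ z, (∀ r ∈ IsLocalRing.maximalIdeal R, r * z ∈ Ideal.span {x}) → z ∈ Ideal.span {x} := by
  have hI : IsLocalRing.maximalIdeal R • (⊤ : Submodule R R) ≠ ⊤ := by
    rw [smul_eq_mul, Ideal.mul_top]; exact (IsLocalRing.maximalIdeal.isMaximal R).ne_top
  refine ⟨fun hass => ?_, fun x hx hnzd z hz => by_contra fun hzx => ?_⟩
  · rw [AssociatedPrimes.mem_iff, isAssociatedPrime_iff] at hass
    obtain ⟨hp, x, hx⟩ := hass
    have h0 : LocCoh.depth R R = 0 := (Depth.idealDepth_eq_zero_iff hI).2 ⟨x, fun h0 => hp.ne_top (by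
      rw [hx, h0]; ext; simp [Submodule.mem_colon_singleton]), fun r hr => by
      rw [hx, Submodule.mem_colon_singleton] at hr; simpa using hr⟩
    rw [h0] at h; simp at h
  · have hofl : Ideal.ofList [x] • (⊤ : Submodule R R) = Ideal.span {x} := by
      rw [Ideal.ofList_singleton, smul_eq_mul, Ideal.mul_top]
    have hmax : Depth.IsMaxSeq (IsLocalRing.maximalIdeal R) R [x] :=
      ⟨(isWeaklyRegular_cons_iff R x []).2 ⟨fun a b hab => (mul_cancel_left_mem_nonZeroDivisors hnzd).1 hab,
        IsWeaklyRegular.nil R _⟩, by simpa using hx, z, by rwa [hofl], fun r hr => by rw [hofl]; exact hz r hr⟩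
    have h1 : LocCoh.depth R R = 1 := (Depth.idealDepth_eq_length hI hmax).trans (by simp)
    rw [h1] at h; norm_num at h

/-- Prime avoidance over finitely many associated primes, in the form used below. -/
theorem exists_mem_notMem_associatedPrimes (J : Ideal A) (T : Set (Ideal A)) (hT : T.Finite)
    (hprime : ∀ p ∈ T, p.IsPrime) (h : ∀ p ∈ T, ¬ J ≤ p) : ∃ x ∈ J, ∀ p ∈ T, x ∉ p := by
  by_contra hne
  simp only [not_exists, not_and, not_forall, Classical.not_not] at hne
  obtain ⟨p, hp, hle⟩ := (J.subset_union_prime_finite hT (f := id) 0 0 fun _ h _ _ => hprime _ h).1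
    fun x hx => by obtain ⟨p, hp, hxp⟩ := hne x hx; exact Set.mem_biUnion hp hxp
  exact h p hp hle

theorem mem_of_associatedPrimes_quotient {x : A} {p : Ideal A}
    (hp : p ∈ associatedPrimes A (A ⧸ Ideal.span {x})) :
    x ∈ p ∧ ∃ z : A, z ∉ Ideal.span {x} ∧ ∀ r, r ∈ p ↔ r * z ∈ Ideal.span {x} := by
  rw [AssociatedPrimes.mem_iff, isAssociatedPrime_iff] at hp
  obtain ⟨hp', w, hw⟩ := hp
  obtain ⟨z, rfl⟩ := Ideal.Quotient.mk_surjective w
  have hiff : ∀ r, r ∈ p ↔ r * z ∈ Ideal.span {x} := fun r => by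
    rw [hw, Submodule.mem_colon_singleton, Submodule.mem_bot, ← Ideal.Quotient.eq_zero_iff_mem]
    rfl
  exact ⟨(hiff x).2 (Ideal.mul_mem_right _ _ (Ideal.mem_span_singleton_self x)), z,
    fun hz => hp'.ne_top ((Ideal.eq_top_iff_one _).2 ((hiff 1).2 (by rwa [one_mul]))), hiff⟩

/-- If all local rings at primes containing `J` have depth at least two, `J` contains a regular pair of
nonzerodivisors. -/
theorem exists_regular_pair (J : Ideal A) {St : PrimeSpectrum A → Type u} [∀ p, CommRing (St p)]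
    [∀ p, IsLocalRing (St p)] [∀ p, Algebra A (St p)] [∀ p, IsLocalization.AtPrime (St p) p.asIdeal]
    (hJ : ∀ p : PrimeSpectrum A, J ≤ p.asIdeal → (2 : ℕ∞) ≤ LocCoh.depth (St p) (St p)) :
    ∃ x ∈ J, ∃ y ∈ J, x ∈ nonZeroDivisors A ∧ y ∈ nonZeroDivisors A ∧
      ∀ z, y * z ∈ Ideal.span {x} → z ∈ Ideal.span {x} := by
  have h0 : ∀ p ∈ associatedPrimes A A, ¬ J ≤ p := fun p hp hle => by
    haveI : p.IsPrime := hp.1
    let P : PrimeSpectrum A := ⟨p, hp.1⟩
    haveI := IsLocalization.isNoetherianRing P.asIdeal.primeCompl (St P) inferInstance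
    refine (two_le_depth_notMem_associatedPrimes (hJ P hle)).1 ?_
    refine Module.associatedPrimes.mem_associatedPrimes_of_comap_mem_associatedPrimes_of_isLocalizedModule
      (R' := St P) P.asIdeal.primeCompl (Algebra.linearMap A (St P)) _ ?_
    convert hp using 1
    exact IsLocalization.AtPrime.comap_maximalIdeal (St P) P.asIdeal
  obtain ⟨x, hxJ, hx⟩ := exists_mem_notMem_associatedPrimes J _ (associatedPrimes.finite A A) (fun p hp => hp.1) h0
  have hxn : x ∈ nonZeroDivisors A := by
    by_contra hn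
    have : x ∈ ⋃ p ∈ associatedPrimes A A, (p : Set A) := by
      rw [biUnion_associatedPrimes_eq_compl_nonZeroDivisors]; exact hn
    obtain ⟨p, hp, hxp⟩ := Set.mem_iUnion₂.1 this
    exact hx p hp hxp
  have h1 : ∀ p ∈ associatedPrimes A (A ⧸ Ideal.span {x}), ¬ J ≤ p := fun p hp hle => by
    haveI : p.IsPrime := hp.1
    obtain ⟨hxp, z, hz, hiff⟩ := mem_of_associatedPrimes_quotient hp
    let P : PrimeSpectrum A := ⟨p, hp.1⟩
    haveI := IsLocalization.isNoetherianRing P.asIdeal.primeCompl (St P) inferInstance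
    have hxm : algebraMap A (St P) x ∈ IsLocalRing.maximalIdeal (St P) :=
      (IsLocalization.AtPrime.to_map_mem_maximal_iff (St P) P.asIdeal x).2 hxp
    have hxn' : algebraMap A (St P) x ∈ nonZeroDivisors (St P) := by
      refine mem_nonZeroDivisors_iff_right.2 fun w hw => ?_
      obtain ⟨⟨a, s⟩, has⟩ := IsLocalization.surj P.asIdeal.primeCompl w
      have : algebraMap A (St P) (a * x) = 0 := by rw [map_mul, ← has, mul_right_comm, hw, zero_mul]
      obtain ⟨t, ht⟩ := (IsLocalization.map_eq_zero_iff P.asIdeal.primeCompl _ _).1 this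
      rw [← mul_assoc] at ht
      have : algebraMap A (St P) a = 0 := (IsLocalization.map_eq_zero_iff P.asIdeal.primeCompl _ _).2
        ⟨t, (mul_right_mem_nonZeroDivisors_eq_zero_iff hxn).1 ht⟩
      rw [this] at has
      exact (IsLocalization.map_units _ s).mul_left_eq_zero.1 has
    have hmem := (two_le_depth_notMem_associatedPrimes (hJ P hle)).2 _ hxm hxn' (algebraMap A (St P) z) fun r hr => by
      obtain ⟨a, s, rfl⟩ := IsLocalization.exists_mk'_eq P.asIdeal.primeCompl r
      have ha : a ∈ p := (IsLocalization.AtPrime.mk'_mem_maximal_iff (St P) P.asIdeal a s).1 hr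
      rw [← Set.image_singleton, ← Ideal.map_span, ← IsLocalization.mk'_one (M := P.asIdeal.primeCompl) (St P) z,
        ← IsLocalization.mk'_mul, IsLocalization.mk'_mem_map_algebraMap_iff]
      exact ⟨1, one_mem _, by rw [one_mul]; exact (hiff a).1 ha⟩
    rw [← Set.image_singleton, ← Ideal.map_span, IsLocalization.algebraMap_mem_map_algebraMap_iff P.asIdeal.primeCompl]
      at hmem
    obtain ⟨s, hs, hsz⟩ := hmem
    exact hs ((hiff s).2 hsz)
  obtain ⟨y, hyJ, hy⟩ := exists_mem_notMem_associatedPrimes J (associatedPrimes A A ∪ associatedPrimes A (A ⧸ Ideal.span {x}))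
    ((associatedPrimes.finite A A).union (associatedPrimes.finite A _))
    (fun p hp => hp.elim (fun h => h.1) fun h => h.1) (fun p hp => hp.elim (h0 p) (h1 p))
  refine ⟨x, hxJ, y, hyJ, hxn, ?_, fun z hz => by_contra fun hzx => ?_⟩
  · by_contra hn
    have : y ∈ ⋃ p ∈ associatedPrimes A A, (p : Set A) := by
      rw [biUnion_associatedPrimes_eq_compl_nonZeroDivisors]; exact hn
    obtain ⟨p, hp, hyp⟩ := Set.mem_iUnion₂.1 this
    exact hy p (Or.inl hp) hyp
  · have hmem : y ∈ ⋃ p ∈ associatedPrimes A (A ⧸ Ideal.span {x}), (p : Set A) := by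
      rw [biUnion_associatedPrimes_eq_zero_divisors]
      refine ⟨Ideal.Quotient.mk _ z, fun h0 => hzx (Ideal.Quotient.eq_zero_iff_mem.1 h0), ?_⟩
      show Ideal.Quotient.mk (Ideal.span {x}) (y * z) = 0
      exact Ideal.Quotient.eq_zero_iff_mem.2 hz
    obtain ⟨p, hp, hyp⟩ := Set.mem_iUnion₂.1 hmem
    exact hy p (Or.inr hp) hyp

variable {B : Type v} [CommRing B] [Algebra A B] [Module.Flat A B]

omit [IsNoetherianRing A] in
theorem regular_of_flat {x : A} (hx : x ∈ nonZeroDivisors A) {b : B} (h : algebraMap A B x * b = 0) : b = 0 := by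
  have hreg : IsSMulRegular A x := fun a a' haa => (mul_cancel_left_mem_nonZeroDivisors hx).1 haa
  exact (hreg.of_flat (S := B)) (by simpa using h)

omit [IsNoetherianRing A] in
/-- `yᴺ m₁ = xᴺ m₂` in a flat algebra forces `m₁ ∈ xᴺ B` for a regular pair `x, y`. -/
theorem exists_eq_pow_mul {x y : A} (hx : x ∈ nonZeroDivisors A)
    (hy : ∀ z, y * z ∈ Ideal.span {x} → z ∈ Ideal.span {x}) :
    ∀ (N : ℕ) (M : ℕ) (m₁ m₂ : B), algebraMap A B y ^ M * m₁ = algebraMap A B x ^ N * m₂ →
      ∃ m, m₁ = algebraMap A B x ^ N * m := by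
  have hwr : IsWeaklyRegular A [x, y] := by
    refine (isWeaklyRegular_cons_iff A x [y]).2 ⟨fun a a' haa => (mul_cancel_left_mem_nonZeroDivisors hx).1 haa,
      (isWeaklyRegular_cons_iff _ y []).2 ⟨fun a a' haa => ?_, IsWeaklyRegular.nil _ _⟩⟩
    obtain ⟨a, rfl⟩ := Submodule.Quotient.mk_surjective _ a
    obtain ⟨a', rfl⟩ := Submodule.Quotient.mk_surjective _ a'
    simp only [← Submodule.Quotient.mk_smul, Submodule.Quotient.eq, Submodule.mem_smul_pointwise_iff_exists,
      Submodule.mem_top, true_and, smul_eq_mul] at haa ⊢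
    obtain ⟨w, hw⟩ := haa
    obtain ⟨u, hu⟩ := Ideal.mem_span_singleton'.1 (hy (a - a') (Ideal.mem_span_singleton'.2 ⟨w, by linear_combination hw⟩))
    exact ⟨u, by linear_combination hu⟩
  have hB := IsWeaklyRegular.of_flat (S := B) hwr
  simp only [List.map_cons, List.map_nil] at hB
  have hyB : ∀ m w : B, algebraMap A B y * m = algebraMap A B x * w → ∃ m', m = algebraMap A B x * m' := by
    intro m w h
    have h2 := ((isWeaklyRegular_cons_iff _ (algebraMap A B y) []).1
      ((isWeaklyRegular_cons_iff B (algebraMap A B x) [algebraMap A B y]).1 hB).2).1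
    have h0 := h2 (a₁ := Submodule.Quotient.mk m) (a₂ := 0) (by
      simp only [← Submodule.Quotient.mk_smul, smul_zero, Submodule.Quotient.mk_eq_zero,
        Submodule.mem_smul_pointwise_iff_exists, Submodule.mem_top, true_and, smul_eq_mul]
      exact ⟨w, h.symm⟩)
    simp only [Submodule.Quotient.mk_eq_zero, Submodule.mem_smul_pointwise_iff_exists, Submodule.mem_top, true_and,
      smul_eq_mul] at h0
    obtain ⟨m', hm'⟩ := h0
    exact ⟨m', hm'.symm⟩
  have hyM : ∀ (M : ℕ) (m w : B), algebraMap A B y ^ M * m = algebraMap A B x * w →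
      ∃ m', m = algebraMap A B x * m' := by
    intro M
    induction M with
    | zero => intro m w h; exact ⟨w, by simpa using h⟩
    | succ M ih =>
      intro m w h
      obtain ⟨w', hw'⟩ := hyB (algebraMap A B y ^ M * m) w (by rw [← mul_assoc, ← pow_succ']; exact h)
      exact ih m w' hw'
  intro N
  induction N with
  | zero => intro M m₁ _ _; exact ⟨m₁, by simp⟩
  | succ N ih =>
    intro M m₁ m₂ h
    obtain ⟨m', rfl⟩ := hyM M m₁ (algebraMap A B x ^ N * m₂) (by rw [h, pow_succ', mul_assoc])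
    obtain ⟨m, rfl⟩ := ih M m' m₂ (sub_eq_zero.1 (regular_of_flat hx (by
      rw [mul_sub, sub_eq_zero, mul_left_comm, h, pow_succ', mul_assoc])))
    exact ⟨m, by rw [pow_succ', mul_assoc]⟩

end Groth.Agent.FlatSecLib
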