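import Groth.Agent.FlatSecLib.Vanish
import Groth.Agent.FlatSecLib.DepthTwo

/-!
Extension of sections and morphisms of finite flat schemes across a closed subset of depth at least two.
-/

set_option autoImplicit false
set_option linter.style.haveILetI false
universe u
open CategoryTheory AlgebraicGeometry Opposite

namespace Groth.Agent.FlatSecLib

variable {S G : Scheme.{u}} [IsLocallyNoetherian S] (f : G ⟶ S) [IsAffineHom f] [AlgebraicGeometry.Flat f]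
  (U : S.Opens) (hU : ∀ s : S, s ∉ U → (2 : ℕ∞) ≤ LocCoh.depth (S.presheaf.stalk s) (S.presheaf.stalk s))

omit [IsAffineHom f] [AlgebraicGeometry.Flat f] f in
include hU in
theorem mem_of_maximalIdeal_mem_associatedPrimes (s : S)
    (h : IsLocalRing.maximalIdeal (S.presheaf.stalk s) ∈ associatedPrimes (S.presheaf.stalk s) (S.presheaf.stalk s)) :
    s ∈ U := by
  by_contra hs
  exact (two_le_depth_notMem_associatedPrimes (hU s hs)).1 h

omit [IsLocallyNoetherian S] [IsAffineHom f] [AlgebraicGeometry.Flat f] f in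
/-- The ideal of functions on `V` whose non-vanishing locus lies in `U`. -/
def opensIdeal (V : S.Opens) : Ideal Γ(S, V) where
  carrier := {a | S.basicOpen a ≤ U}
  zero_mem' := fun x hx => by simp [Scheme.basicOpen_zero] at hx
  add_mem' := fun {a b} ha hb => fun x hx => ((Scheme.basicOpen_add_le S a b) hx).elim (fun h => ha h) fun h => hb h
  smul_mem' := fun c a ha => by
    show S.basicOpen (c * a) ≤ U
    rw [Scheme.basicOpen_mul]
    exact inf_le_right.trans ha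

include hU in
theorem exists_pair {V : S.Opens} (hV : IsAffineOpen V) :
    ∃ x ∈ opensIdeal U V, ∃ y ∈ opensIdeal U V, x ∈ nonZeroDivisors Γ(S, V) ∧ y ∈ nonZeroDivisors Γ(S, V) ∧
      ∀ z, y * z ∈ Ideal.span {x} → z ∈ Ideal.span {x} := by
  haveI : IsNoetherianRing Γ(S, V) := IsLocallyNoetherian.component_noetherian ⟨V, hV⟩
  have hy : ∀ y : PrimeSpectrum Γ(S, V), hV.fromSpec y ∈ V := fun y => by
    have h : hV.fromSpec y ∈ Set.range hV.fromSpec := ⟨y, rfl⟩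
    rwa [hV.range_fromSpec] at h
  letI : ∀ y : PrimeSpectrum Γ(S, V), Algebra Γ(S, V) (S.presheaf.stalk (hV.fromSpec y)) := fun y =>
    TopCat.Presheaf.algebra_section_stalk S.presheaf ⟨hV.fromSpec y, hy y⟩
  haveI : ∀ y : PrimeSpectrum Γ(S, V), IsLocalization.AtPrime (S.presheaf.stalk (hV.fromSpec y)) y.asIdeal :=
    fun y => hV.isLocalization_stalk' y (hy y)
  refine exists_regular_pair (St := fun y => S.presheaf.stalk (hV.fromSpec y)) (opensIdeal U V) fun p hp => hU _ fun hmem => ?_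
  obtain ⟨a, hle, ha⟩ := hV.exists_basicOpen_le ⟨hV.fromSpec p, hmem⟩ (hy p)
  have h1 : p ∈ hV.fromSpec ⁻¹ᵁ S.basicOpen a := ha
  exact (show p ∈ PrimeSpectrum.basicOpen a from (hV.fromSpec_preimage_basicOpen a).le h1) (hp hle)

include hU in
theorem bijective_restrict {V : S.Opens} (hV : IsAffineOpen V) :
    Function.Bijective (G.presheaf.map (homOfLE (inf_le_left : f ⁻¹ᵁ V ⊓ f ⁻¹ᵁ U ≤ f ⁻¹ᵁ V)).op) := by
  refine ⟨(injective_iff_map_eq_zero _).2 fun b hb => eq_zero_of_restrict_eq_zero f U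
    (mem_of_maximalIdeal_mem_associatedPrimes U hU) hV b hb, fun c => ?_⟩
  letI := (f.app V).hom.toAlgebra
  haveI : IsNoetherianRing Γ(S, V) := IsLocallyNoetherian.component_noetherian ⟨V, hV⟩
  haveI : Module.Flat Γ(S, V) Γ(G, f ⁻¹ᵁ V) := by
    have := HasRingHomProperty.appLE @AlgebraicGeometry.Flat f inferInstance ⟨V, hV⟩ ⟨_, hV.preimage f⟩ le_rfl
    rwa [← Scheme.Hom.app_eq_appLE] at this
  obtain ⟨x, hxJ, y, hyJ, hxn, hyn, hxy⟩ := exists_pair U hU hV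
  let W' : G.Opens := f ⁻¹ᵁ V ⊓ f ⁻¹ᵁ U
  let R (W : G.Opens) (h : W ≤ f ⁻¹ᵁ V) : Γ(G, f ⁻¹ᵁ V) →+* Γ(G, W) := (G.presheaf.map (homOfLE h).op).hom
  let r (W W₁ : G.Opens) (h : W ≤ W₁) : Γ(G, W₁) →+* Γ(G, W) := (G.presheaf.map (homOfLE h).op).hom
  have hrr : ∀ (W₂ W₁ W : G.Opens) (h₂ : W₂ ≤ W₁) (h₁ : W₁ ≤ W) (e : Γ(G, W)),
      r W₂ W₁ h₂ (r W₁ W h₁ e) = r W₂ W (h₂.trans h₁) e := fun W₂ W₁ W h₂ h₁ e => by
    show (G.presheaf.map _ ≫ G.presheaf.map _) e = G.presheaf.map _ e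
    rw [← Functor.map_comp]; rfl
  have hle : ∀ a ∈ opensIdeal U V, G.basicOpen (f.app V a) ≤ W' := fun a ha => le_inf (G.basicOpen_le _) (by
    rw [show G.basicOpen (f.app V a) = f ⁻¹ᵁ S.basicOpen a from (Scheme.preimage_basicOpen f a).symm]
    exact fun z hz => ha hz)
  haveI hlocal : ∀ b : Γ(G, f ⁻¹ᵁ V), IsLocalization.Away b Γ(G, G.basicOpen b) :=
    fun b => (hV.preimage f).isLocalization_basicOpen b
  -- numerators on `D(x)` and `D(y)`
  have hnum : ∀ a, (ha : a ∈ opensIdeal U V) → ∃ (k : ℕ) (m : Γ(G, f ⁻¹ᵁ V)),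
      r _ W' (hle a ha) c * R _ (G.basicOpen_le _) (f.app V a) ^ k = R _ (G.basicOpen_le _) m := fun a ha => by
    obtain ⟨⟨m, ⟨_, k, rfl⟩⟩, hm⟩ := IsLocalization.surj (Submonoid.powers (f.app V a)) (r _ W' (hle a ha) c)
    refine ⟨k, m, ?_⟩
    rw [← map_pow]; exact hm
  obtain ⟨k₁, m₁, hm₁⟩ := hnum x hxJ
  obtain ⟨k₂, m₂, hm₂⟩ := hnum y hyJ
  let P : Γ(G, f ⁻¹ᵁ V) := f.app V x * f.app V y
  have hPx : G.basicOpen P ≤ G.basicOpen (f.app V x) := by rw [Scheme.basicOpen_mul]; exact inf_le_left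
  have hPy : G.basicOpen P ≤ G.basicOpen (f.app V y) := by rw [Scheme.basicOpen_mul]; exact inf_le_right
  have hRr : ∀ (W₂ W₁ : G.Opens) (h₂ : W₂ ≤ W₁) (h₁ : W₁ ≤ f ⁻¹ᵁ V) (e : Γ(G, f ⁻¹ᵁ V)),
      r W₂ W₁ h₂ (R W₁ h₁ e) = R W₂ (h₂.trans h₁) e := fun W₂ W₁ h₂ h₁ e => hrr _ _ _ h₂ h₁ e
  have e1 := congrArg (r _ _ hPx) hm₁
  have e2 := congrArg (r _ _ hPy) hm₂
  rw [map_mul, map_pow, hrr, hRr, hRr] at e1 e2
  have hagree : algebraMap Γ(G, f ⁻¹ᵁ V) Γ(G, G.basicOpen P) (f.app V y ^ k₂ * m₁ - f.app V x ^ k₁ * m₂) = 0 := by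
    show R _ (G.basicOpen_le P) _ = 0
    simp only [map_sub, map_mul, map_pow]
    linear_combination (-(R _ (G.basicOpen_le P) (f.app V y)) ^ k₂) * e1 + (R _ (G.basicOpen_le P) (f.app V x)) ^ k₁ * e2
  obtain ⟨⟨_, l, rfl⟩, hl⟩ := (IsLocalization.map_eq_zero_iff (Submonoid.powers P) _ _).1 hagree
  have hzero : f.app V y ^ k₂ * m₁ - f.app V x ^ k₁ * m₂ = 0 := by
    refine regular_of_flat (A := Γ(S, V)) (pow_mem hyn l) (regular_of_flat (A := Γ(S, V)) (pow_mem hxn l) ?_)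
    rw [map_pow, map_pow]
    linear_combination (norm := (simp only [P, RingHom.algebraMap_toAlgebra]; ring)) hl
  obtain ⟨m, hm⟩ := exists_eq_pow_mul (A := Γ(S, V)) (B := Γ(G, f ⁻¹ᵁ V)) hxn hxy k₁ k₂ m₁ m₂
    (sub_eq_zero.1 hzero)
  refine ⟨m, ?_⟩
  show R W' inf_le_left m = c
  have hcov : W' ≤ ⨆ a : opensIdeal U V, G.basicOpen (f.app V (a : Γ(S, V))) := fun z hz => by
    obtain ⟨a, hale, hza⟩ := hV.exists_basicOpen_le ⟨f z, hz.2⟩ hz.1
    exact TopologicalSpace.Opens.mem_iSup.2 ⟨⟨a, fun w hw => hale hw⟩, by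
      rw [show G.basicOpen (f.app V a) = f ⁻¹ᵁ S.basicOpen a from (Scheme.preimage_basicOpen f a).symm]; exact hza⟩
  refine G.sheaf.eq_of_locally_eq' (fun a : opensIdeal U V => G.basicOpen (f.app V (a : Γ(S, V)))) W'
    (fun a => homOfLE (hle a a.2)) hcov _ _ fun a => ?_
  show r _ W' (hle a a.2) (R W' inf_le_left m) = r _ W' (hle a a.2) c
  rw [← sub_eq_zero, ← map_sub]
  let e := R W' inf_le_left m - c
  show r _ W' (hle a a.2) e = 0
  obtain ⟨⟨b, ⟨_, k, rfl⟩⟩, hb⟩ := IsLocalization.surj (Submonoid.powers (f.app V a)) (r _ W' (hle a a.2) e)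
  let Q : Γ(G, f ⁻¹ᵁ V) := f.app V a * f.app V x
  have hQa : G.basicOpen Q ≤ G.basicOpen (f.app V (a : Γ(S, V))) := by rw [Scheme.basicOpen_mul]; exact inf_le_left
  have hQx : G.basicOpen Q ≤ G.basicOpen (f.app V x) := by rw [Scheme.basicOpen_mul]; exact inf_le_right
  have hex : r _ W' (hle x hxJ) e = 0 := by
    have hu : IsUnit (R _ (G.basicOpen_le (f.app V x)) (f.app V x) ^ k₁) :=
      (IsLocalization.Away.algebraMap_isUnit (f.app V x)).pow k₁
    refine hu.mul_left_eq_zero.1 ?_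
    show r _ W' (hle x hxJ) (R W' inf_le_left m - c) * _ = 0
    rw [map_sub, hRr, sub_mul, hm₁, hm, map_mul, map_pow, sub_eq_zero, mul_comm]
    rfl
  have hQ0 : algebraMap Γ(G, f ⁻¹ᵁ V) Γ(G, G.basicOpen Q) b = 0 := by
    have h3 : r _ _ hQa (R _ (G.basicOpen_le _) b) = 0 := by
      rw [← show r _ W' (hle a a.2) e * R _ (G.basicOpen_le (f.app V (a : Γ(S, V)))) (f.app V a ^ k) = R _ (G.basicOpen_le _) b from hb,
        map_mul, hrr]
      have h4 : r _ W' (hQx.trans (hle x hxJ)) e = 0 := by rw [← hrr _ _ _ hQx (hle x hxJ), hex, map_zero]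
      rw [show r _ W' (hQa.trans (hle a a.2)) e = 0 from h4, zero_mul]
    rw [hRr] at h3
    exact h3
  obtain ⟨⟨_, l, rfl⟩, hl⟩ := (IsLocalization.map_eq_zero_iff (Submonoid.powers Q) _ _).1 hQ0
  have h5 : f.app V a ^ l * b = 0 := regular_of_flat (A := Γ(S, V)) (pow_mem hxn l) (by
    rw [map_pow]
    linear_combination (norm := (simp only [Q, RingHom.algebraMap_toAlgebra]; ring)) hl)
  have hb0 : algebraMap Γ(G, f ⁻¹ᵁ V) Γ(G, G.basicOpen (f.app V (a : Γ(S, V)))) b = 0 :=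
    (IsLocalization.map_eq_zero_iff (Submonoid.powers (f.app V a)) _ _).2 ⟨⟨f.app V a ^ l, l, rfl⟩, h5⟩
  rw [hb0] at hb
  exact (IsLocalization.map_units Γ(G, G.basicOpen (f.app V (a : Γ(S, V)))) (⟨f.app V a ^ k, k, rfl⟩ : Submonoid.powers (f.app V a))).mul_left_eq_zero.1 hb

end Groth.Agent.FlatSecLib
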