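import Groth.Agent.FlatSecLib.Extend

/-!
Extension of morphisms of affine flat schemes across a closed subset of depth at least two.
-/

set_option autoImplicit false
set_option linter.style.haveILetI false
universe u
open CategoryTheory AlgebraicGeometry Opposite Limits

namespace Groth.Agent.FlatSecLib

theorem hom_ext_of_isIso_appTop {W' W X : Scheme.{u}} [IsAffine X] (j : W' ⟶ W) [IsIso j.appTop] {a b : W ⟶ X}
    (h : j ≫ a = j ≫ b) : a = b := by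
  refine ext_of_isAffine ?_
  have := congrArg Scheme.Hom.appTop h
  rw [Scheme.Hom.comp_appTop, Scheme.Hom.comp_appTop] at this
  exact (cancel_mono _).1 this

theorem exists_extend {W' W X : Scheme.{u}} [IsAffine X] (j : W' ⟶ W) [IsIso j.appTop] (g' : W' ⟶ X) :
    ∃ g : W ⟶ X, j ≫ g = g' := by
  refine ⟨W.toSpecΓ ≫ Spec.map (g'.appTop ≫ inv j.appTop) ≫ X.isoSpec.inv, ?_⟩
  rw [Scheme.toSpecΓ_naturality_assoc, ← Spec.map_comp_assoc, Category.assoc, IsIso.inv_hom_id, Category.comp_id,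
    ← Scheme.toSpecΓ_naturality_assoc]
  simp [Scheme.isoSpec]

variable {S G : Scheme.{u}} [IsLocallyNoetherian S] (f : G ⟶ S) [IsAffineHom f] [AlgebraicGeometry.Flat f]
  (U : S.Opens) (hU : ∀ s : S, s ∉ U → (2 : ℕ∞) ≤ LocCoh.depth (S.presheaf.stalk s) (S.presheaf.stalk s))

include hU in
theorem isIso_homOfLE_appTop {V : S.Opens} (hV : IsAffineOpen V) :
    IsIso (G.homOfLE (inf_le_left : f ⁻¹ᵁ V ⊓ f ⁻¹ᵁ U ≤ f ⁻¹ᵁ V)).appTop := by
  haveI : IsIso (G.presheaf.map (homOfLE (inf_le_left : f ⁻¹ᵁ V ⊓ f ⁻¹ᵁ U ≤ f ⁻¹ᵁ V)).op) :=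
    (ConcreteCategory.isIso_iff_bijective _).2 (bijective_restrict f U hU hV)
  let e₁ := eqToHom ((f ⁻¹ᵁ V).ι_image_top).symm
  let e₂ := eqToHom ((f ⁻¹ᵁ V ⊓ f ⁻¹ᵁ U).ι_image_top)
  rw [Scheme.homOfLE_appTop]
  have hfac : ∀ (A A' B B' : G.Opens) (h : A' ≤ A) (hB : B = A) (hB' : B' = A') (k : B' ⟶ B),
      IsIso (G.presheaf.map (homOfLE h).op) → IsIso (G.presheaf.map k.op) := by
    rintro A A' B B' h rfl rfl k hi
    rwa [Subsingleton.elim k (homOfLE h)]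
  exact hfac _ _ _ _ inf_le_left (f ⁻¹ᵁ V).ι_image_top (f ⁻¹ᵁ V ⊓ f ⁻¹ᵁ U).ι_image_top _ inferInstance

end Groth.Agent.FlatSecLib
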