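import Mathlib

/-!
Sections on a flat affine scheme over a Noetherian base are determined over the associated points.
-/

set_option autoImplicit false
set_option linter.style.haveILetI false
universe u
open CategoryTheory AlgebraicGeometry

namespace Groth.Agent.FlatSecLib

theorem eq_zero_of_not_le_associatedPrimes {A B : Type*} [CommRing A] [IsNoetherianRing A] [CommRing B] [Algebra A B]
    [Module.Flat A B] (b : B) (h : ∀ p ∈ associatedPrimes A A, ∃ a ∉ p, a • b = 0) : b = 0 := by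
  let K : Ideal A := LinearMap.ker (LinearMap.toSpanSingleton A B b)
  obtain ⟨a, haK, ha⟩ : ∃ a ∈ K, a ∈ nonZeroDivisors A := by
    by_contra hne
    obtain ⟨p, hp, hKp⟩ := (K.subset_union_prime_finite (associatedPrimes.finite ..) (f := id) 0 0 fun _ h _ _ => h.1).1
      (by rw [show (⋃ i ∈ associatedPrimes A A, ((id i : Ideal A) : Set A)) = ((nonZeroDivisors A : Set A))ᶜ from
            biUnion_associatedPrimes_eq_compl_nonZeroDivisors A]
          exact fun a ha hnzd => hne ⟨a, ha, hnzd⟩)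
    obtain ⟨a, hap, ha⟩ := h p hp
    exact hap (hKp (LinearMap.mem_ker.2 ha))
  have hreg : IsSMulRegular A a := fun x y hxy => (mul_cancel_left_mem_nonZeroDivisors ha).1 hxy
  refine (hreg.of_flat (S := B)) (show algebraMap A B a • b = algebraMap A B a • (0 : B) from ?_)
  rw [smul_zero, smul_eq_mul, ← Algebra.smul_def]
  exact LinearMap.mem_ker.1 haK

variable {S G : Scheme.{u}} (f : G ⟶ S)

/-- If `U` contains the points `s` with `𝔪_s ∈ Ass 𝒪_{S,s}`, restriction of sections from `f⁻¹V`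
(`V` affine, `f` affine and flat) to a smaller open containing `f⁻¹(U ∩ V)` is injective. -/
theorem eq_zero_of_restrict_eq_zero [IsLocallyNoetherian S] [IsAffineHom f] [AlgebraicGeometry.Flat f]
    (U : S.Opens) (hU : ∀ s : S, IsLocalRing.maximalIdeal (S.presheaf.stalk s) ∈
        associatedPrimes (S.presheaf.stalk s) (S.presheaf.stalk s) → s ∈ U)
    {V : S.Opens} (hV : IsAffineOpen V) (b : Γ(G, f ⁻¹ᵁ V))
    (hb : G.presheaf.map (homOfLE (inf_le_left : f ⁻¹ᵁ V ⊓ f ⁻¹ᵁ U ≤ f ⁻¹ᵁ V)).op b = 0) : b = 0 := by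
  letI := (f.app V).hom.toAlgebra
  haveI : IsNoetherianRing Γ(S, V) := IsLocallyNoetherian.component_noetherian ⟨V, hV⟩
  haveI : Module.Flat Γ(S, V) Γ(G, f ⁻¹ᵁ V) := by
    have := HasRingHomProperty.appLE @AlgebraicGeometry.Flat f inferInstance ⟨V, hV⟩ ⟨_, hV.preimage f⟩ le_rfl
    rwa [← Scheme.Hom.app_eq_appLE] at this
  refine eq_zero_of_not_le_associatedPrimes (A := Γ(S, V)) b fun p hp => ?_
  haveI : p.IsPrime := hp.1
  obtain ⟨y, rfl⟩ : ∃ y : PrimeSpectrum Γ(S, V), y.asIdeal = p := ⟨⟨p, hp.1⟩, rfl⟩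
  have hy : hV.fromSpec y ∈ V := by
    have : hV.fromSpec y ∈ Set.range hV.fromSpec := ⟨y, rfl⟩
    rwa [hV.range_fromSpec] at this
  letI := TopCat.Presheaf.algebra_section_stalk S.presheaf ⟨hV.fromSpec y, hy⟩
  haveI hloc : IsLocalization y.asIdeal.primeCompl (S.presheaf.stalk (hV.fromSpec y)) :=
    hV.isLocalization_stalk' y hy
  have hass : IsLocalRing.maximalIdeal (S.presheaf.stalk (hV.fromSpec y)) ∈
      associatedPrimes (S.presheaf.stalk (hV.fromSpec y)) (S.presheaf.stalk (hV.fromSpec y)) := by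
    refine Module.associatedPrimes.mem_associatedPrimes_of_comap_mem_associatedPrimes_of_isLocalizedModule
      (R' := S.presheaf.stalk (hV.fromSpec y)) y.asIdeal.primeCompl
      (Algebra.linearMap Γ(S, V) (S.presheaf.stalk (hV.fromSpec y))) _ ?_
    convert hp using 1
    exact IsLocalization.AtPrime.comap_maximalIdeal (S.presheaf.stalk (hV.fromSpec y)) y.asIdeal
  obtain ⟨a, hle, hmem⟩ := hV.exists_basicOpen_le ⟨hV.fromSpec y, hU _ hass⟩ hy
  have hap : a ∉ y.asIdeal := by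
    have h1 : y ∈ hV.fromSpec ⁻¹ᵁ S.basicOpen a := hmem
    exact (show y ∈ PrimeSpectrum.basicOpen a from (hV.fromSpec_preimage_basicOpen a).le h1)
  let c : Γ(G, f ⁻¹ᵁ V) := f.app V a
  haveI := (hV.preimage f).isLocalization_basicOpen c
  have hle' : G.basicOpen c ≤ f ⁻¹ᵁ V ⊓ f ⁻¹ᵁ U := le_inf (G.basicOpen_le c) (by
    rw [show G.basicOpen c = f ⁻¹ᵁ S.basicOpen a from (Scheme.preimage_basicOpen f a).symm]
    exact fun x hx => hle hx)
  have h0 : algebraMap Γ(G, f ⁻¹ᵁ V) Γ(G, G.basicOpen c) b = 0 := by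
    show G.presheaf.map (homOfLE (G.basicOpen_le c)).op b = 0
    rw [show (homOfLE (G.basicOpen_le c)).op = (homOfLE (inf_le_left : f ⁻¹ᵁ V ⊓ f ⁻¹ᵁ U ≤ f ⁻¹ᵁ V)).op ≫
      (homOfLE hle').op from rfl, Functor.map_comp, CommRingCat.comp_apply, hb, map_zero]
  obtain ⟨⟨_, n, rfl⟩, hn⟩ := (IsLocalization.map_eq_zero_iff (Submonoid.powers c) _ _).1 h0
  refine ⟨a ^ n, fun h => hap (hp.1.mem_of_pow_mem n h), ?_⟩
  rw [Algebra.smul_def, map_pow]
  exact hn

end Groth.Agent.FlatSecLib
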